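import Cfsg.Agent.H635.SporFlat

/-!
# The sieve for groups without outer automorphisms
-/

set_option autoImplicit false
set_option linter.unusedSectionVars false

namespace Cfsg.Agent.H635.Spor

open Cfsg Cfsg.Agent.Characters.Core Cfsg.Agent.SmallSimple.DegreeData Subgroup

universe u v

variable {S : Type u} [Group S]

theorem card_out_congr {T : Type v} [Group T] (e : S ≃* T) : Nat.card (Cfsg.Out S) = Nat.card (Cfsg.Out T) := by
  refine Nat.card_congr (QuotientGroup.congr (Cfsg.Inn S) (Cfsg.Inn T) (MulAut.congr e) ?_).toEquiv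
  ext φ
  constructor
  · rintro ⟨ψ, ⟨s, rfl⟩, rfl⟩
    refine ⟨e s, ?_⟩
    ext x
    simp [MulAut.congr]
  · rintro ⟨t, rfl⟩
    refine ⟨MulAut.conj (e.symm t), ⟨_, rfl⟩, ?_⟩
    ext x
    simp [MulAut.congr]

theorem hyp_of [Finite S] [IsSimpleGroup S] {N : ℕ} (hN : Nat.card S = N) (h2 : 2 ∣ N) (hN2 : N ≠ 2) {k : ℕ}
    (hO : Nat.card (Cfsg.Out S) = k) (hk : k ≤ 2) : Hyp S where
  fin := inferInstance
  simple := inferInstance
  np := by
    rw [hN]
    intro h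
    rcases (Nat.dvd_prime h).1 h2 with h1 | h1
    · omega
    · exact hN2 h1.symm
  out := by rw [hO]; exact hk

theorem exists_prime_dvd_card (h : Hyp S) : ∃ q : ℕ, q.Prime ∧ q ∣ Nat.card S := by
  have := h.fin
  have := h.simple
  have h1 : 1 < Nat.card S := Finite.one_lt_card_iff_nontrivial.2 inferInstance
  exact Nat.exists_prime_and_dvd h1.ne'

theorem flat_of_not_good (h : Hyp S) (hO : Nat.card (Cfsg.Out S) = 1) {p : ℕ} (hp : p.Prime) (hp2 : p ≠ 2)
    (hng : ¬ H687.Good p S) : ∃ d, Flat p d S := by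
  have := h.fin
  obtain ⟨q, hq, hqS⟩ := exists_prime_dvd_card h
  obtain ⟨χ, h1, h2, -⟩ := exists_sing (S := S) hp.one_lt hq hqS
  exact ⟨_, fun ψ h3 h4 => eq_of_not_good h hp hp2 hng h1 h3 h2 h4 (autInv_of_out_one hO χ) (autInv_of_out_one hO ψ)⟩

theorem mem_of_dvs (h : Hyp S) {l : ℕ} {L : List ℕ} (hL : dvs l = L) [hl : Fact l.Prime] [Finite S] (K : Blk l S) :
    K.e ∈ L := by
  rw [← hL]
  exact mem_dvs (K.one_lt_e h) K.ht hl.out.one_lt

/-- **The sieve without information on the inertial indices.** -/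
theorem good_of_sieve (h : Hyp S) (hO : Nat.card (Cfsg.Out S) = 1) {p : ℕ} (hp : p.Prime) (hp2 : p ≠ 2)
    (F : List (ℕ × ℕ)) (N : ℕ) (hN : Nat.card S = N) (hFN : val F = N) (hFp : ∀ x ∈ F, x.1.Prime)
    (hFe : exact F N = true) (ls : List (ℕ × List ℕ))
    (hls : ∀ x ∈ ls, x.1.Prime ∧ x.1 ≠ 2 ∧ x.1 ∣ N ∧ ¬ x.1 ^ 2 ∣ N) (hes : ∀ x ∈ ls, dvs x.1 = x.2)
    (hc : allD (tst N p ls []) (bnd p F) 1 = true) : H687.Good p S := by
  by_contra hng
  obtain ⟨d, hd⟩ := flat_of_not_good h hO hp hp2 hng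
  have := hd.mem_surv h hp F N hN hFN hFp hFe ls hls (fun x hx _ _ K => mem_of_dvs h (hes x hx) K) [] hc
  simp at this

end Cfsg.Agent.H635.Spor
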