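import Cfsg.Agent.H635.SporOut1

/-!
# A faster form of the sieve

The residues allowed modulo `l` are stored as bits of three masks (the degree is `1`, `-1` or something else modulo `p`);
products whose square is at least the group order are not visited.
-/

set_option autoImplicit false
set_option linter.unusedSectionVars false

namespace Cfsg.Agent.H635.Spor

open Cfsg Cfsg.Agent.Characters.Core Cfsg.Agent.SmallSimple.DegreeData Subgroup

universe u

/-- evaluate the argument before going on -/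
def force {α : Type} (n : ℕ) (k : ℕ → α) : α :=
  Nat.rec (motive := fun _ => α) (k 0) (fun m _ => k (Nat.succ m)) n

theorem force_eq {α : Type} (n : ℕ) (k : ℕ → α) : force n k = k n := by
  cases n <;> rfl

/-- `g` at `acc * q ^ i` for all `i ≤ a` with `(acc * q ^ i) ^ 2 < N` -/
def pw (N q : ℕ) (g : ℕ → Bool) : ℕ → ℕ → Bool
  | 0, acc => g acc
  | a + 1, acc => g acc && force (Nat.mul acc q) fun acc' => Nat.ble N (Nat.mul acc' acc') || pw N q g a acc'

theorem pw_sound {N q : ℕ} (hq : 0 < q) {g : ℕ → Bool} : ∀ {a acc : ℕ}, pw N q g a acc = true → ∀ i ≤ a,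
    acc * q ^ i * (acc * q ^ i) < N → g (acc * q ^ i) = true
  | 0, acc, h, i, hi, _ => by
    obtain rfl : i = 0 := by omega
    simpa [pw] using h
  | a + 1, acc, h, i, hi, hlt => by
    rw [pw, Bool.and_eq_true, force_eq] at h
    rcases i with _ | i
    · simpa using h.1
    · have e : acc * q ^ (i + 1) = acc * q * q ^ i := by ring
      rw [e] at hlt ⊢
      have h2 := h.2
      rw [Bool.or_eq_true] at h2
      rcases h2 with h3 | h3
      · exfalso
        have h4 : N ≤ acc * q * (acc * q) := Nat.le_of_ble_eq_true h3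
        have h5 : 1 ≤ q ^ i := Nat.one_le_pow _ _ hq
        have h6 : acc * q ≤ acc * q * q ^ i := Nat.le_mul_of_pos_right _ h5
        have h7 := Nat.mul_le_mul h6 h6
        omega
      · exact pw_sound hq h3 i (by omega) hlt

/-- `f` at all products -/
def allF (N : ℕ) (f : ℕ → Bool) : List (ℕ × ℕ) → ℕ → Bool
  | [], acc => f acc
  | x :: L, acc => pw N x.1 (allF N f L) x.2 acc

theorem allF_sound {N : ℕ} {f : ℕ → Bool} : ∀ (L : List (ℕ × ℕ)) (acc d : ℕ), (∀ x ∈ L, x.1.Prime) → d ≠ 0 →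
    (∀ r : ℕ, r.Prime → r ∣ d → r ∈ L.map Prod.fst) → (∀ x ∈ L, ¬ x.1 ^ (x.2 + 1) ∣ d) → allF N f L acc = true →
    acc * d * (acc * d) < N → f (acc * d) = true
  | [], acc, d, _, hd, h, _, hc, _ => by
    have : d = 1 := by
      by_contra hne
      obtain ⟨r, hr, hrd⟩ := Nat.exists_prime_and_dvd hne
      simpa using h r hr hrd
    rw [this, mul_one]
    exact hc
  | x :: L, acc, d, hL, hd, h, h', hc, hlt => by
    have hx := hL x List.mem_cons_self
    obtain ⟨i, m, hm, him⟩ := Nat.exists_eq_pow_mul_and_not_dvd (Nat.pos_of_ne_zero hd |> fun h => h.ne') x.1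
      hx.one_lt.ne'
    have hm0 : 1 ≤ m := Nat.pos_of_ne_zero (by rintro rfl; exact hm (dvd_zero _))
    have hi : i ≤ x.2 := by
      by_contra hcon
      push Not at hcon
      apply h' x List.mem_cons_self
      rw [him]
      exact (pow_dvd_pow _ hcon).trans (dvd_mul_right _ _)
    have hmd : m ∣ d := him ▸ dvd_mul_left _ _
    have e : acc * d = acc * x.1 ^ i * m := by rw [him, mul_assoc]
    have hle : acc * x.1 ^ i ≤ acc * x.1 ^ i * m := Nat.le_mul_of_pos_right _ hm0
    rw [e] at hlt ⊢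
    have h1 := pw_sound hx.pos (show pw N x.1 (allF N f L) x.2 acc = true from hc) i hi
      (lt_of_le_of_lt (Nat.mul_le_mul hle hle) hlt)
    exact allF_sound L (acc * x.1 ^ i) m (fun y hy => hL y (List.mem_cons_of_mem _ hy))
      (by rintro rfl; exact hm (dvd_zero _)) (fun r hr hrm => by
        have := h r hr (hrm.trans hmd)
        rw [List.map_cons, List.mem_cons] at this
        rcases this with h3 | h3
        · exact absurd (h3 ▸ hrm) hm
        · exact h3) (fun y hy hyd => h' y (List.mem_cons_of_mem _ hy) (hyd.trans hmd)) h1 hlt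

/-- a row of the table: the prime and the three masks -/
structure TRow where
  l : ℕ
  m0 : ℕ
  m1 : ℕ
  m2 : ℕ

/-- bit of a mask -/
def bit (m i : ℕ) : Bool := Nat.beq (Nat.land (Nat.shiftRight m i) 1) 1

/-- the masks contain what is allowed -/
def TRow.ok (x : TRow) (es : List ℕ) : Bool :=
  bit x.m0 1 && (bit x.m0 (x.l - 1) && (bit x.m1 1 && (bit x.m1 (x.l - 1) && (bit x.m2 1 && (bit x.m2 (x.l - 1) &&
    es.all fun e => bit x.m1 (e % x.l) && bit x.m2 ((x.l - e % x.l) % x.l))))))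

/-- the test, `c = 0`: the degree is `1` modulo `p`, `c = 1`: it is `-1`, else: neither -/
def passes (c d : ℕ) (x : TRow) : Bool :=
  bit (Nat.rec (motive := fun _ => ℕ) x.m1 (fun c' _ => Nat.rec (motive := fun _ => ℕ) x.m2 (fun _ _ => x.m0) c') c)
    (Nat.mod d x.l)

/-- the class of `d` -/
def cls (p d : ℕ) : ℕ :=
  bif Nat.beq (Nat.mod d p) 1 then 0 else bif Nat.beq (Nat.mod d p) (Nat.sub p 1) then 1 else 2

/-- the test for `d` -/
def tstF (p : ℕ) (tb : List TRow) (surv : List ℕ) (d : ℕ) : Bool :=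
  force (cls p d) fun c => !(tb.all (passes c d)) || (Nat.ble d 1 || surv.any (fun s => Nat.beq s d))

theorem mod_of_add {d l e : ℕ} (hl : 0 < l) (h : (d + e) % l = 0) : d % l = (l - e % l) % l := by
  have h1 := Nat.div_add_mod d l
  have h2 := Nat.div_add_mod e l
  have h3 := Nat.mod_lt d hl
  have h4 := Nat.mod_lt e hl
  have h5 : (d % l + e % l) % l = 0 := by rw [← Nat.add_mod]; exact h
  rcases Nat.eq_zero_or_pos (e % l) with h6 | h6
  · rw [h6, Nat.sub_zero, Nat.mod_self]
    rw [h6, add_zero, Nat.mod_mod] at h5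
    exact h5
  · rw [Nat.mod_eq_of_lt (show l - e % l < l by omega)]
    rcases lt_or_ge (d % l + e % l) l with h7 | h7
    · rw [Nat.mod_eq_of_lt h7] at h5
      omega
    · rw [Nat.mod_eq_sub_mod h7, Nat.mod_eq_of_lt (by omega)] at h5
      omega

theorem passes_of_ok {x : TRow} {es : List ℕ} (hx : x.ok es = true) (hl : 1 < x.l) {p d e : ℕ} (hp : 2 < p)
    (he : e ∈ es) (h : Ok p x.l e d) : passes (cls p d) d x = true := by
  unfold TRow.ok at hx
  simp only [Bool.and_eq_true, List.all_eq_true] at hx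
  obtain ⟨h1, h2, h3, h4, h5, h6, h7⟩ := hx
  have h8 := h7 e he
  have hB := okB_of_ok hl (by omega) h
  unfold okB at hB
  have hbq : ∀ {a b : ℕ}, Nat.beq a b = true ↔ a = b := fun {a b} => ⟨Nat.eq_of_beq_eq_true, fun h => by rw [h]; exact Nat.beq_refl b⟩
  simp only [Bool.or_eq_true, Bool.and_eq_true, hbq] at hB
  have hm : ∀ c, c = 0 ∨ c = 1 ∨ c = 2 → (d % x.l = 1 ∨ d % x.l = x.l - 1) → passes c d x = true := by
    rintro c (rfl | rfl | rfl) (hd | hd) <;> (show bit _ (d % x.l) = true; rw [hd]; assumption)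
  have hcls : cls p d = 0 ∨ cls p d = 1 ∨ cls p d = 2 := by
    unfold cls
    cases Nat.beq (Nat.mod d p) 1 <;> cases Nat.beq (Nat.mod d p) (Nat.sub p 1) <;> simp
  rcases hB with hB | hB | ⟨hB, hB'⟩ | ⟨hB, hB'⟩
  · exact hm _ hcls (Or.inl hB)
  · refine hm _ hcls (Or.inr ?_)
    rw [mod_of_add (by omega) hB, Nat.mod_eq_of_lt hl, Nat.mod_eq_of_lt (by omega)]
  · have hc : cls p d = 0 := by
      unfold cls
      rw [show Nat.mod d p = 1 from hB']
      rfl
    rw [hc]
    show bit x.m1 (d % x.l) = true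
    rw [hB]
    exact h8.1
  · have hc : cls p d = 1 := by
      have h9 : d % p = p - 1 := by
        rw [mod_of_add (by omega) hB', Nat.mod_eq_of_lt (show 1 < p by omega), Nat.mod_eq_of_lt (show p - 1 < p by omega)]
      unfold cls
      rw [show Nat.mod d p = p - 1 from h9]
      have h10 : Nat.beq (p - 1) 1 = false := by
        rw [← Bool.not_eq_true, hbq]
        omega
      rw [h10]
      show (bif Nat.beq (p - 1) (p - 1) then 1 else 2) = 1
      rw [Nat.beq_refl]
      rfl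
    rw [hc]
    show bit x.m2 (d % x.l) = true
    rw [mod_of_add (by omega) hB]
    exact h8.2

/-- the facts on the common degree -/
theorem Flat.facts {S : Type u} [Group S] (h : Hyp S) {p d : ℕ} (hp : p.Prime) (hF : Flat p d S) :
    d ≠ 0 ∧ d ≠ 1 ∧ d ∣ Nat.card S ∧ ¬ p ∣ d ∧ d * d < Nat.card S := by
  have := h.fin
  obtain ⟨q, hq, hqS⟩ := exists_prime_dvd_card h
  obtain ⟨χ, hχ1, hχ2, -⟩ := exists_sing (S := S) hp.one_lt hq hqS
  have hχd := hF χ hχ1 hχ2
  have h1 := h.deg_ne_one hχ1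
  have h2 := sq_lt_card hχ1
  refine ⟨?_, ?_, ?_, ?_, ?_⟩
  · rw [← hχd]; exact deg_ne_zero χ
  · rw [← hχd]; exact h1
  · rw [← hχd]; exact Blocks.Knorr.charDegree_dvd χ.2
  · rw [← hχd]; exact hχ2
  · rw [← hχd]; exact h2

/-- **The fast sieve.** -/
theorem Flat.mem_surv' {S : Type u} [Group S] (h : Hyp S) {p d : ℕ} (hp : p.Prime) (hp2 : 2 < p) (hF : Flat p d S)
    (F : List (ℕ × ℕ)) (N : ℕ) (hN : Nat.card S = N) (hFN : val F = N) (hFp : ∀ x ∈ F, x.1.Prime)
    (hFe : exact F N = true) (tb : List TRow) (hls : ∀ x ∈ tb, x.l.Prime ∧ x.l ≠ 2 ∧ x.l ∣ N ∧ ¬ x.l ^ 2 ∣ N)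
    (hes : ∀ x ∈ tb, ∀ [Fact x.l.Prime] [Finite S] (K : Blk x.l S), ∃ es : List ℕ, K.e ∈ es ∧ x.ok es = true)
    (surv : List ℕ) (hc : allF N (tstF p tb surv) (bnd p F) 1 = true) : d ∈ surv := by
  classical
  have := h.fin
  obtain ⟨hd0, hd1, hdN, hpd, hlt⟩ := hF.facts h hp
  rw [hN] at hdN hlt
  have hex : ∀ x ∈ F, 0 < x.2 ∧ ¬ x.1 ^ (x.2 + 1) ∣ N := by
    intro x hx
    have h1 := List.all_eq_true.1 hFe x hx
    rw [Bool.and_eq_true] at h1
    refine ⟨Nat.le_of_ble_eq_true h1.1, fun hd => ?_⟩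
    have h2 := h1.2
    rw [Nat.mod_eq_zero_of_dvd hd] at h2
    simp at h2
  have hdvd : ∀ x ∈ F, x.1 ∣ N := by
    intro x hx
    rw [← hFN]
    refine (dvd_pow_self x.1 (hex x hx).1.ne').trans ?_
    exact List.dvd_prod (List.mem_map.2 ⟨x, hx, rfl⟩)
  have h1 := allF_sound (f := tstF p tb surv) (bnd p F) 1 d ?_ hd0 ?_ ?_ hc (by rw [one_mul]; exact hlt)
  · rw [one_mul, tstF, force_eq, Bool.or_eq_true, Bool.or_eq_true] at h1
    rcases h1 with h1 | h1 | h1
    · exfalso
      rw [Bool.not_eq_true', List.all_eq_false] at h1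
      obtain ⟨x, hx, hx'⟩ := h1
      apply hx'
      obtain ⟨hl, hl2, hlN, hlN2⟩ := hls x hx
      have : Fact x.l.Prime := ⟨hl⟩
      obtain ⟨K⟩ := exists_blk x.l hl2 S (hN ▸ hlN) (hN ▸ hlN2)
      obtain ⟨es, h2, h3⟩ := hes x hx K
      exact passes_of_ok h3 hl.one_lt hp2 h2 (hF.ok hp.one_lt K)
    · exfalso
      have h2 : d ≤ 1 := Nat.le_of_ble_eq_true h1
      omega
    · obtain ⟨s, hs, hsd⟩ := List.any_eq_true.1 h1
      rw [← Nat.eq_of_beq_eq_true hsd]
      exact hs
  · intro x hx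
    obtain ⟨y, hy, rfl⟩ := List.mem_map.1 hx
    exact hFp y hy
  · intro r hr hrd
    have h2 := mem_of_prime_dvd_val hFp hr (by rw [hFN]; exact hrd.trans hdN)
    rw [bnd, List.map_map]
    exact h2
  · intro x hx
    obtain ⟨y, hy, rfl⟩ := List.mem_map.1 hx
    show ¬ y.1 ^ ((if Nat.beq y.1 p then 0 else y.2 - 1) + 1) ∣ d
    by_cases hyp : y.1 = p
    · rw [if_pos (by rw [hyp]; exact Nat.beq_refl p), zero_add, pow_one, hyp]
      exact hpd
    · rw [if_neg (by simpa using hyp)]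
      rw [Nat.sub_add_cancel (hex y hy).1]
      intro hfull
      exact hF.not_full hp.one_lt (hFp y hy) (by rw [hN]; exact hdvd y hy) (by rw [hN]; exact (hex y hy).2) hfull

end Cfsg.Agent.H635.Spor
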