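import Cfsg.Agent.H635.SporOut1
import Cfsg.Agent.NotCT.Orders
import Cfsg.Agent.S2084

/-!
# `Good` for the Baby Monster
-/

set_option autoImplicit false
set_option maxRecDepth 100000

namespace Cfsg.Agent.H635.Spor

open Cfsg Cfsg.Agent.NotCT

universe u

variable {S : Type u} [Group S]

theorem sieve_b_5 : allD (tst 4154781481226426191177580544000000 5 [(47, [2, 23, 46]), (23, [2, 11, 22]), (31, [2, 3, 5, 6, 10, 15, 30]), (17, [2, 4, 8, 16]), (19, [2, 3, 6, 9, 18]), (11, [2, 5, 10]), (13, [2, 3, 4, 6, 12])] [])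
    (bnd 5 [(2, 41), (3, 13), (5, 6), (7, 2), (11, 1), (13, 1), (17, 1), (19, 1), (23, 1), (31, 1), (47, 1)]) 1 = true := by
  decide +kernel

/-- `p = 5` -/
theorem good_b_5 [IsSimpleGroup S] (h : Cfsg.Spor.IsoB S) : H687.Good 5 S := by
  have hN := Orders.b h
  have hfin : Finite S := Nat.finite_of_card_ne_zero (by rw [hN]; norm_num)
  have hO : Nat.card (Cfsg.Out S) = 1 := by
    obtain ⟨e⟩ := h
    rw [card_out_congr e, S2084.result]
  refine good_of_sieve (hyp_of hN (by norm_num) (by norm_num) hO (by norm_num)) hO (by norm_num) (by norm_num)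
    [(2, 41), (3, 13), (5, 6), (7, 2), (11, 1), (13, 1), (17, 1), (19, 1), (23, 1), (31, 1), (47, 1)] _ hN
    (by decide +kernel) ?_ (by decide +kernel)
    [(47, [2, 23, 46]), (23, [2, 11, 22]), (31, [2, 3, 5, 6, 10, 15, 30]), (17, [2, 4, 8, 16]), (19, [2, 3, 6, 9, 18]), (11, [2, 5, 10]), (13, [2, 3, 4, 6, 12])]
    ?_ ?_ sieve_b_5
  · intro x hx
    fin_cases hx <;> norm_num
  · intro x hx
    fin_cases hx <;> exact ⟨by norm_num, by norm_num, by norm_num, by norm_num⟩
  · intro x hx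
    fin_cases hx <;> decide +kernel

theorem sieve_b_7 : allD (tst 4154781481226426191177580544000000 7 [(47, [2, 23, 46]), (23, [2, 11, 22]), (31, [2, 3, 5, 6, 10, 15, 30]), (17, [2, 4, 8, 16]), (19, [2, 3, 6, 9, 18]), (11, [2, 5, 10]), (13, [2, 3, 4, 6, 12])] [])
    (bnd 7 [(2, 41), (3, 13), (5, 6), (7, 2), (11, 1), (13, 1), (17, 1), (19, 1), (23, 1), (31, 1), (47, 1)]) 1 = true := by
  decide +kernel

/-- `p = 7` -/
theorem good_b_7 [IsSimpleGroup S] (h : Cfsg.Spor.IsoB S) : H687.Good 7 S := by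
  have hN := Orders.b h
  have hfin : Finite S := Nat.finite_of_card_ne_zero (by rw [hN]; norm_num)
  have hO : Nat.card (Cfsg.Out S) = 1 := by
    obtain ⟨e⟩ := h
    rw [card_out_congr e, S2084.result]
  refine good_of_sieve (hyp_of hN (by norm_num) (by norm_num) hO (by norm_num)) hO (by norm_num) (by norm_num)
    [(2, 41), (3, 13), (5, 6), (7, 2), (11, 1), (13, 1), (17, 1), (19, 1), (23, 1), (31, 1), (47, 1)] _ hN
    (by decide +kernel) ?_ (by decide +kernel)
    [(47, [2, 23, 46]), (23, [2, 11, 22]), (31, [2, 3, 5, 6, 10, 15, 30]), (17, [2, 4, 8, 16]), (19, [2, 3, 6, 9, 18]), (11, [2, 5, 10]), (13, [2, 3, 4, 6, 12])]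
    ?_ ?_ sieve_b_7
  · intro x hx
    fin_cases hx <;> norm_num
  · intro x hx
    fin_cases hx <;> exact ⟨by norm_num, by norm_num, by norm_num, by norm_num⟩
  · intro x hx
    fin_cases hx <;> decide +kernel

end Cfsg.Agent.H635.Spor
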