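import Cfsg.Agent.H635.SporOut1
import Cfsg.Agent.NotCT.Orders
import Cfsg.Agent.S2076
import Cfsg.Agent.S2068

/-!
# `Good` for Ly and J4
-/

set_option autoImplicit false
set_option maxRecDepth 100000

namespace Cfsg.Agent.H635.Spor

open Cfsg Cfsg.Agent.NotCT

universe u

variable {S : Type u} [Group S]

theorem sieve_ly_5 : allD (tst 51765179004000000 5 [(67, [2, 3, 6, 11, 22, 33, 66]), (37, [2, 3, 4, 6, 9, 12, 18, 36]), (31, [2, 3, 5, 6, 10, 15, 30]), (11, [2, 5, 10]), (7, [2, 3, 6])] [])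
    (bnd 5 [(2, 8), (3, 7), (5, 6), (7, 1), (11, 1), (31, 1), (37, 1), (67, 1)]) 1 = true := by
  decide +kernel

/-- `p = 5` -/
theorem good_ly_5 [IsSimpleGroup S] (h : Cfsg.Spor.IsoLy S) : H687.Good 5 S := by
  have hN := Orders.ly h
  have hfin : Finite S := Nat.finite_of_card_ne_zero (by rw [hN]; norm_num)
  have hO : Nat.card (Cfsg.Out S) = 1 := by
    obtain ⟨e⟩ := h
    rw [card_out_congr e, S2076.result]
  refine good_of_sieve (hyp_of hN (by norm_num) (by norm_num) hO (by norm_num)) hO (by norm_num) (by norm_num)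
    [(2, 8), (3, 7), (5, 6), (7, 1), (11, 1), (31, 1), (37, 1), (67, 1)] _ hN
    (by decide +kernel) ?_ (by decide +kernel)
    [(67, [2, 3, 6, 11, 22, 33, 66]), (37, [2, 3, 4, 6, 9, 12, 18, 36]), (31, [2, 3, 5, 6, 10, 15, 30]), (11, [2, 5, 10]), (7, [2, 3, 6])]
    ?_ ?_ sieve_ly_5
  · intro x hx
    fin_cases hx <;> norm_num
  · intro x hx
    fin_cases hx <;> exact ⟨by norm_num, by norm_num, by norm_num, by norm_num⟩
  · intro x hx
    fin_cases hx <;> decide +kernel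

theorem sieve_j4_11 : allD (tst 86775571046077562880 11 [(23, [2, 11, 22]), (43, [2, 3, 6, 7, 14, 21, 42]), (29, [2, 4, 7, 14, 28]), (37, [2, 3, 4, 6, 9, 12, 18, 36]), (31, [2, 3, 5, 6, 10, 15, 30]), (5, [2, 4]), (7, [2, 3, 6])] [])
    (bnd 11 [(2, 21), (3, 3), (5, 1), (7, 1), (11, 3), (23, 1), (29, 1), (31, 1), (37, 1), (43, 1)]) 1 = true := by
  decide +kernel

/-- `p = 11` -/
theorem good_j4_11 [IsSimpleGroup S] (h : Cfsg.Spor.IsoJ4 S) : H687.Good 11 S := by
  have hN := Orders.j4 h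
  have hfin : Finite S := Nat.finite_of_card_ne_zero (by rw [hN]; norm_num)
  have hO : Nat.card (Cfsg.Out S) = 1 := by
    obtain ⟨e⟩ := h
    rw [card_out_congr e, S2068.result]
  refine good_of_sieve (hyp_of hN (by norm_num) (by norm_num) hO (by norm_num)) hO (by norm_num) (by norm_num)
    [(2, 21), (3, 3), (5, 1), (7, 1), (11, 3), (23, 1), (29, 1), (31, 1), (37, 1), (43, 1)] _ hN
    (by decide +kernel) ?_ (by decide +kernel)
    [(23, [2, 11, 22]), (43, [2, 3, 6, 7, 14, 21, 42]), (29, [2, 4, 7, 14, 28]), (37, [2, 3, 4, 6, 9, 12, 18, 36]), (31, [2, 3, 5, 6, 10, 15, 30]), (5, [2, 4]), (7, [2, 3, 6])]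
    ?_ ?_ sieve_j4_11
  · intro x hx
    fin_cases hx <;> norm_num
  · intro x hx
    fin_cases hx <;> exact ⟨by norm_num, by norm_num, by norm_num, by norm_num⟩
  · intro x hx
    fin_cases hx <;> decide +kernel

end Cfsg.Agent.H635.Spor
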