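import Cfsg.Agent.H34.SporTool
import Cfsg.Agent.H34.SporHyp
import Cfsg.Agent.H690.Spor.Ru
import Cfsg.Agent.S1689
import Cfsg.Agent.S2077
import Cfsg.Agent.S2080

/-!
# `Good 5` for Ru and Fi23 (permutation characters of rank 3)
-/

set_option autoImplicit false

namespace Cfsg.Agent.H635.Spor

open Cfsg Cfsg.Agent.H34.SporTool Cfsg.Agent.H34.SporHyp Cfsg.Agent.H690.Spor.RankThree Cfsg.Agent.NotCT

universe u

variable {S : Type u} [Group S]

/-- Two irreducible characters of known degrees, `Out = 1`. -/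
theorem good_of_two (h : Hyp S) (hO : Nat.card (Cfsg.Out S) = 1) {p : ℕ} (hp : p.Prime) (hp2 : p ≠ 2)
    {T : Type*} [Group T] (e : S ≃* T) {χ₁ χ₂ : IrrCharacter T} {a b : ℕ}
    (h1 : charDegree (χ₁ : T → ℂ) = a) (h2 : charDegree (χ₂ : T → ℂ) = b) (ha1 : a ≠ 1) (hb1 : b ≠ 1)
    (hpa : ¬ p ∣ a) (hpb : ¬ p ∣ b) (hd : ¬ b ∣ a) : H687.Good p S := by
  have := h.fin
  have : Finite T := Finite.of_equiv S e.toEquiv
  refine H687.Good.of_equiv e ?_
  have hc : Subgroup.center T = ⊥ := by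
    have h5 := h.center_eq_bot
    have h6 := (Subgroup.centerCongr e).toEquiv
    rw [h5] at h6
    exact (Subgroup.eq_bot_iff_card _).2 ((Nat.card_congr h6).symm.trans (by simp))
  have hOT : Nat.card (Cfsg.Out T) = 1 := by rw [← card_out_congr e]; exact hO
  exact good_of_pair hc (by rw [hOT]; norm_num) hp hp2 (by rw [h1]; exact ha1) (by rw [h2]; exact hb1)
    (by rw [h1]; exact hpa) (by rw [h2]; exact hpb) (autInv_of_out_one hOT χ₁) (by rw [h1, h2]; exact hd)

/-- **Ru** -/
theorem good_ru_5 [IsSimpleGroup S] (h : Cfsg.Spor.IsoRu S) : H687.Good 5 S := by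
  have hN := Orders.ru h
  have hS : Hyp S := hyp_spor (by unfold IsSporadicGroup; tauto)
  have := hS.fin
  obtain ⟨e⟩ := h
  have hO : Nat.card (Cfsg.Out S) = 1 := by rw [card_out_congr e, S2077.result]
  obtain ⟨R, hR⟩ := H690.Spor.Ru.r3
  have e' := e.trans Cfsg.Agent.RuLat.Main.equiv
  have := Finite.of_equiv S e'.toEquiv
  obtain ⟨χ₁, χ₂, h1, h2, -⟩ := frame_pair hR 783 3276 rfl [64, 63, 65, 11, 17, 19, 23] (by decide) 11 (by norm_num)
    (fun f hf => by omega) (by decide +kernel)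
  exact good_of_two hS hO (by norm_num) (by norm_num) e' h1 h2 (by norm_num) (by norm_num) (by norm_num)
    (by norm_num) (by norm_num)

/-- **Fi23** -/
theorem good_fi23_5 [IsSimpleGroup S] (h : Cfsg.Spor.IsoFi23 S) : H687.Good 5 S := by
  have hN := Orders.fi23 h
  have hS : Hyp S := hyp_spor (by unfold IsSporadicGroup; tauto)
  have := hS.fin
  obtain ⟨e⟩ := h
  have hO : Nat.card (Cfsg.Out S) = 1 := by rw [card_out_congr e, S2080.result]
  have := Finite.of_equiv S e.toEquiv
  obtain ⟨hi, q₁, q₂, h1, h2⟩ := S1689.result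
  obtain ⟨R, hR⟩ := R3.of_index _ (k := 3510) (l := 28160) hi h1 h2 (by norm_num) (by norm_num) (by norm_num)
  obtain ⟨χ₁, χ₂, h1, h2, -⟩ := frame_pair hR 782 30888 rfl [64, 63, 65, 11, 17, 19, 23, 31] (by decide) 14 (by norm_num)
    (fun f hf => by
      obtain rfl : f = 15835 := by omega
      norm_num) (by decide +kernel)
  exact good_of_two hS hO (by norm_num) (by norm_num) e h1 h2 (by norm_num) (by norm_num) (by norm_num)
    (by norm_num) (by norm_num)

end Cfsg.Agent.H635.Spor
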