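import Cfsg.Agent.H635.SporOut1F
import Cfsg.Agent.H635.SporE
import Cfsg.Agent.H635.SporTh31
import Cfsg.Agent.NotCT.Orders
import Cfsg.Agent.S2083

/-!
# `Good` for the Thompson group (p = 5, 7)
-/

set_option autoImplicit false
set_option maxRecDepth 100000

namespace Cfsg.Agent.H635.Spor

open Cfsg Cfsg.Agent.NotCT Cfsg.Agent.H964.NoHall

universe u

variable {S : Type u} [Group S]

theorem conj_of_equiv {T : Type} [Group T] (e : S ≃* T) {z g : T} {k : ℕ} (h : g * z * g⁻¹ = z ^ k) :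
    e.symm g * e.symm z * (e.symm g)⁻¹ = e.symm z ^ k := by
  rw [← map_inv, ← map_mul, ← map_mul, h, map_pow]

theorem ord_31_25 : orderOf ((25 : ℕ) : ZMod 31) = 3 := by
  rw [orderOf_eq_iff (by norm_num)]
  refine ⟨by decide, fun m h1 h2 => ?_⟩
  interval_cases m <;> decide

theorem ord_19_6 : orderOf ((6 : ℕ) : ZMod 19) = 9 := by
  rw [orderOf_eq_iff (by norm_num)]
  refine ⟨by decide, fun m h1 h2 => ?_⟩
  interval_cases m <;> decide

theorem ord_19_18 : orderOf ((18 : ℕ) : ZMod 19) = 2 := by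
  rw [orderOf_eq_iff (by norm_num)]
  refine ⟨by decide, fun m h1 h2 => ?_⟩
  interval_cases m; decide

theorem th_31 (e : S ≃* Cfsg.Spor.Th) [Fact (Nat.Prime 31)] [Finite S] (K : Blk 31 S) : 3 ∣ K.e := by
  refine dvd_e K (z := e.symm (thE wTz)) (g := e.symm (thE wTa)) (k := 25) ?_ (conj_of_equiv e wTz_conj) ord_31_25
  rw [MulEquiv.orderOf_eq, orderOf_wTz]

theorem th_19 (e : S ≃* Cfsg.Spor.Th) [Fact (Nat.Prime 19)] [Finite S] (K : Blk 19 S) : 18 ∣ K.e := by
  have h1 : 9 ∣ K.e := by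
    refine dvd_e K (z := e.symm (thE thW)) (g := e.symm (thE thH)) (k := 6) ?_ (conj_of_equiv e ?_) ord_19_6
    · rw [MulEquiv.orderOf_eq, thW_order]
    · rw [thH_conj, mul_inv_cancel_right]
  have h2 : 2 ∣ K.e := by
    refine dvd_e K (z := e.symm (thE thW)) (g := e.symm (thE (.g .a))) (k := 18) ?_ (conj_of_equiv e ?_) ord_19_18
    · rw [MulEquiv.orderOf_eq, thW_order]
    · rw [thA_conj, mul_inv_cancel_right]
  omega

/-- the table -/
def tb_th : List TRow :=
  [⟨31, 1073741826, 1073774666, 1375797250⟩, ⟨19, 262146, 262146, 262146⟩, ⟨13, 4098, 4190, 7810⟩]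

theorem sieve_th_5 : allF 90745943887872000 (tstF 5 tb_th []) (bnd 5 [(2, 15), (3, 10), (5, 3), (7, 2), (13, 1), (19, 1), (31, 1)]) 1 = true := by
  decide +kernel

theorem sieve_th_7 : allF 90745943887872000 (tstF 7 tb_th []) (bnd 7 [(2, 15), (3, 10), (5, 3), (7, 2), (13, 1), (19, 1), (31, 1)]) 1 = true := by
  decide +kernel

theorem mem_list {l : ℕ} [hl' : Fact l.Prime] [Finite S] (h : Hyp S) (K : Blk l S) {m : ℕ}
    (hm : m ∣ K.e) : K.e ∈ (dvs l).filter fun e => decide (m ∣ e) :=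
  List.mem_filter.2 ⟨mem_of_dvs h rfl K, by simpa using hm⟩

/-- **Th** -/
theorem good_th [IsSimpleGroup S] (h : Cfsg.Spor.IsoTh S) {p : ℕ} (hp : p = 5 ∨ p = 7) : H687.Good p S := by
  have hN := Orders.th h
  have hfin : Finite S := Nat.finite_of_card_ne_zero (by rw [hN]; norm_num)
  obtain ⟨e⟩ := h
  have hO : Nat.card (Cfsg.Out S) = 1 := by
    rw [card_out_congr e, S2083.result]
  have hH := hyp_of hN (by norm_num) (by norm_num) hO (by norm_num)
  have hes : ∀ x ∈ tb_th, ∀ [Fact x.l.Prime] [Finite S] (K : Blk x.l S), ∃ es : List ℕ, K.e ∈ es ∧ x.ok es = true := by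
    intro x hx _ _ K
    unfold tb_th at hx
    simp only [List.mem_cons, List.not_mem_nil, or_false] at hx
    rcases hx with rfl | rfl | rfl
    · exact ⟨_, mem_list hH K (th_31 e K), by decide +kernel⟩
    · exact ⟨_, mem_list hH K (th_19 e K), by decide +kernel⟩
    · exact ⟨_, mem_of_dvs hH rfl K, by decide +kernel⟩
  have hls : ∀ x ∈ tb_th, x.l.Prime ∧ x.l ≠ 2 ∧ x.l ∣ 90745943887872000 ∧ ¬ x.l ^ 2 ∣ 90745943887872000 := by
    intro x hx
    unfold tb_th at hx
    fin_cases hx <;> exact ⟨by norm_num, by norm_num, by norm_num, by norm_num⟩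
  by_contra hng
  have hF : ∀ x ∈ [(2, 15), (3, 10), (5, 3), (7, 2), (13, 1), (19, 1), (31, 1)], Nat.Prime x.1 := by
    intro x hx
    fin_cases hx <;> norm_num
  rcases hp with rfl | rfl
  · obtain ⟨d, hd, -⟩ := flat_of_sieve hH hO (by norm_num) (by norm_num)
      [(2, 15), (3, 10), (5, 3), (7, 2), (13, 1), (19, 1), (31, 1)] _ hN (by decide +kernel) hF
      (by decide +kernel) tb_th hls hes [] sieve_th_5 hng
    simp at hd
  · obtain ⟨d, hd, -⟩ := flat_of_sieve hH hO (by norm_num) (by norm_num)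
      [(2, 15), (3, 10), (5, 3), (7, 2), (13, 1), (19, 1), (31, 1)] _ hN (by decide +kernel) hF
      (by decide +kernel) tb_th hls hes [] sieve_th_7 hng
    simp at hd

end Cfsg.Agent.H635.Spor
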